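/-
Fischer's classification of primitive groups of 3-transpositions: the cases, the standing
hypotheses, and the statements of the separate steps.
-/
import Cfsg.Agent.H5.TT.Level

set_option autoImplicit false

namespace H71.Fischer

open Cfsg
open scoped MatrixGroups

universe u

section cases

variable (X : Type u) [Group X] (E : Set X)

/-- The symmetric group of degree `n` with its transpositions. -/
def SymCase (n : ℕ) : Prop :=
  ∃ e : X ≃* Equiv.Perm (Fin n), e '' E = {σ : Equiv.Perm (Fin n) | σ.IsSwap}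

/-- The symplectic group of dimension `2 m` over the field with two elements with its transvections. -/
def SpCase (m : ℕ) : Prop :=
  ∃ e : X ≃* Matrix.symplecticGroup (Fin m) (ZMod 2), e '' E = {g : Matrix.symplecticGroup (Fin m) (ZMod 2) | ((g : Matrix (Fin m ⊕ Fin m) (Fin m ⊕ Fin m) (ZMod 2)) - 1).rank = 1}

/-- The projective special unitary group over the field with four elements with the images of the
transvections. -/
def PSUCase (n : ℕ) : Prop :=
  ∃ (F : Type) (_ : Field F) (_ : Fintype F), Fintype.card F = 4 ∧ ∃ e : X ≃* Cfsg.PSU n F 2, e '' E = (QuotientGroup.mk : ↥(Cfsg.SU n F 2) → Cfsg.PSU n F 2) '' {g : ↥(Cfsg.SU n F 2) | (((g : Matrix.SpecialLinearGroup (Fin n) F) : Matrix (Fin n) (Fin n) F) - 1).rank = 1}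

/-- The orthogonal group of a hyperbolic form in dimension `2 m` over the field with two elements
with its transvections. -/
def OPlusCase (m : ℕ) : Prop :=
  ∃ e : X ≃* ↥(Cfsg.isometryGroup (ZMod 2) (Cfsg.quadFormPlus m (ZMod 2))), e '' E = {g : ↥(Cfsg.isometryGroup (ZMod 2) (Cfsg.quadFormPlus m (ZMod 2))) | (((g : GL (Fin m ⊕ Fin m) (ZMod 2)) : Matrix (Fin m ⊕ Fin m) (Fin m ⊕ Fin m) (ZMod 2)) - 1).rank = 1}

/-- The orthogonal group of an elliptic form in dimension `2 m + 2` over the field with two elements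
with its transvections. -/
def OMinusCase (m : ℕ) : Prop :=
  ∃ e : X ≃* ↥(Cfsg.isometryGroup (ZMod 2) (Cfsg.quadFormMinus m (ZMod 2) 1 1)), e '' E = {g : ↥(Cfsg.isometryGroup (ZMod 2) (Cfsg.quadFormMinus m (ZMod 2) 1 1)) | (((g : GL ((Fin m ⊕ Fin m) ⊕ Fin 2) (ZMod 2)) : Matrix ((Fin m ⊕ Fin m) ⊕ Fin 2) ((Fin m ⊕ Fin m) ⊕ Fin 2) (ZMod 2)) - 1).rank = 1}

/-- A reflection group of a non-degenerate form of dimension `n` over the field with three elements,
modulo its centre, with the images of the reflections. -/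
def ReflCase (n : ℕ) : Prop :=
  ∃ Q : QuadraticForm (ZMod 3) (Fin n → ZMod 3), (QuadraticMap.polarBilin Q).Nondegenerate ∧ ∃ c : ZMod 3, c ≠ 0 ∧ ∃ e : X ≃* ↥(Cfsg.reflectionSubgroup (⇑Q) c) ⧸ Subgroup.center ↥(Cfsg.reflectionSubgroup (⇑Q) c), e '' E = (QuotientGroup.mk : ↥(Cfsg.reflectionSubgroup (⇑Q) c) → _) '' {g : ↥(Cfsg.reflectionSubgroup (⇑Q) c) | (g : ↥(Cfsg.isometryGroup (ZMod 3) (⇑Q))) ∈ Cfsg.reflectionsOfNorm (⇑Q) c}

/-- The possibilities for a primitive group whose local cores are central. -/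
def Concl : Prop :=
  (∃ n : ℕ, 7 ≤ n ∧ SymCase X E n) ∨
    ((∃ m : ℕ, 3 ≤ m ∧ OPlusCase X E m) ∨ (∃ m : ℕ, 2 ≤ m ∧ OMinusCase X E m)) ∨
    (∃ n : ℕ, 5 ≤ n ∧ ReflCase X E n) ∨
    (IsOfTypeM22 X E ∨ IsOfTypeM23 X E ∨ IsOfTypeM24 X E)

/-- The possibilities for a primitive group of width at least two whose local cores are not both
central. -/
def CoreConcl : Prop :=
  SymCase X E 5 ∨ (∃ m : ℕ, 2 ≤ m ∧ SpCase X E m) ∨ (∃ n : ℕ, 4 ≤ n ∧ PSUCase X E n)

/-- All possibilities for a class of 3-transpositions with simple commutator subgroup. -/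
def FullConcl : Prop := SymCase X E 3 ∨ CoreConcl X E ∨ Concl X E

end cases

/-- Both local cores are central at `d`. -/
def CoresCentral {G : Type*} [Group G] (D : Set G) (d : G) : Prop :=
  pCore 3 ↥(Subgroup.closure (H99.perp D d)) ≤ Subgroup.center ↥(Subgroup.closure (H99.perp D d)) ∧
  pCore 2 ↥(Subgroup.closure (H99.perp D d)) ≤ Subgroup.center ↥(Subgroup.closure (H99.perp D d))

/-- The hypotheses of the classification. -/
structure Hyp {G : Type*} [Group G] (D : Set G) (d : G) : Prop where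
  grp : IsThreeTranspositionGroup D
  prim : IsPrimitiveUnderConj D
  triv : Subgroup.center G = ⊥
  mem : d ∈ D
  wide : ∃ b ∈ D, b ≠ d ∧ Commute d b
  cores : CoresCentral D d

open H5.TT.Fac (Down qD Desc)

/-- The hypotheses together with what is known about the group one step down. -/
structure Step {G : Type*} [Group G] (D : Set G) (d : G) : Prop extends Hyp D d where
  cls : IsThreeTranspositionClass D
  desc : Desc D d
  downClass : IsThreeTranspositionClass (qD D d)
  downPrim : IsPrimitiveUnderConj (qD D d)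
  downTriv : Subgroup.center (Down D d) = ⊥
  downWide : ∀ a ∈ qD D d, ∃ b ∈ qD D d, b ≠ a ∧ Commute a b

/-! ### Statements of the steps -/

/-- M1: one step down. -/
def DownStmt : Prop :=
  ∀ {G : Type u} [Group G] [Finite G] {D : Set G} {d : G}, Hyp D d → Step D d

/-- Non-central local cores. -/
def CoreStmt : Prop :=
  ∀ {G : Type u} [Group G] [Finite G] {D : Set G} {d : G}, IsThreeTranspositionGroup D →
    IsPrimitiveUnderConj D → Subgroup.center G = ⊥ → d ∈ D → (∃ b ∈ D, b ≠ d ∧ Commute d b) →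
    ¬ CoresCentral D d → CoreConcl G D

/-- No two commuting members. -/
def NarrowStmt : Prop :=
  ∀ {G : Type u} [Group G] [Finite G] {D : Set G}, IsThreeTranspositionClass D →
    Subgroup.center G = ⊥ → IsSimpleGroup (commutator G) →
    (¬ ∃ a ∈ D, ∃ b ∈ D, a ≠ b ∧ Commute a b) → SymCase G D 3

/-- M3: over the symplectic group. -/
def SpStmt : Prop :=
  ∀ {G : Type u} [Group G] [Finite G] {D : Set G} {d : G} {m : ℕ}, Step D d → 2 ≤ m →
    SpCase (Down D d) (qD D d) m → OPlusCase G D (m + 1) ∨ OMinusCase G D m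

/-- M3: over the symmetric group. -/
def SymStmt : Prop :=
  ∀ {G : Type u} [Group G] [Finite G] {D : Set G} {d : G} {n : ℕ}, Step D d → (n = 5 ∨ 7 ≤ n) →
    SymCase (Down D d) (qD D d) n → SymCase G D (n + 2)

/-- M4: nothing over a hyperbolic orthogonal group in dimension at least eight. -/
def NoOPlusStmt : Prop :=
  ∀ {G : Type u} [Group G] [Finite G] {D : Set G} {d : G} {m : ℕ}, Step D d → 4 ≤ m →
    OPlusCase (Down D d) (qD D d) m → False

/-- M4: nothing over an elliptic orthogonal group in dimension at least eight. -/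
def NoOMinusStmt : Prop :=
  ∀ {G : Type u} [Group G] [Finite G] {D : Set G} {d : G} {m : ℕ}, Step D d → 3 ≤ m →
    OMinusCase (Down D d) (qD D d) m → False

/-- M4: nothing over the unitary groups other than in dimensions four and six. -/
def NoPSUStmt : Prop :=
  ∀ {G : Type u} [Group G] [Finite G] {D : Set G} {d : G} {n : ℕ}, Step D d → (n = 5 ∨ 7 ≤ n) →
    PSUCase (Down D d) (qD D d) n → False

/-- M4: nothing over type M(24). -/
def NoM24Stmt : Prop :=
  ∀ {G : Type u} [Group G] [Finite G] {D : Set G} {d : G}, Step D d →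
    IsOfTypeM24 (Down D d) (qD D d) → False

/-- M5: over the six-dimensional unitary group. -/
def M22Stmt : Prop :=
  ∀ {G : Type u} [Group G] [Finite G] {D : Set G} {d : G}, Step D d →
    PSUCase (Down D d) (qD D d) 6 → IsOfTypeM22 G D

/-- M6: over type M(22). -/
def M23Stmt : Prop :=
  ∀ {G : Type u} [Group G] [Finite G] {D : Set G} {d : G}, Step D d →
    IsOfTypeM22 (Down D d) (qD D d) → IsOfTypeM23 G D

/-- M7: over type M(23). -/
def M24Stmt : Prop :=
  ∀ {G : Type u} [Group G] [Finite G] {D : Set G} {d : G}, Step D d →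
    IsOfTypeM23 (Down D d) (qD D d) → IsOfTypeM24 G D

/-- M8: over a reflection group over the field with three elements. -/
def ReflStmt : Prop :=
  ∀ {G : Type u} [Group G] [Finite G] {D : Set G} {d : G} {n : ℕ}, Step D d → 5 ≤ n →
    ReflCase (Down D d) (qD D d) n → ReflCase G D (n + 1)

/-- M9: the four-dimensional unitary group as a reflection group. -/
def PSUFourStmt : Prop :=
  ∀ {X : Type u} [Group X] {E : Set X}, PSUCase X E 4 → ReflCase X E 5

/-- M9: the six-dimensional elliptic orthogonal group as a reflection group. -/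
def OMinusTwoStmt : Prop :=
  ∀ {X : Type u} [Group X] {E : Set X}, OMinusCase X E 2 → ReflCase X E 5

/-- M9: the six-dimensional hyperbolic orthogonal group as a symmetric group. -/
def OPlusThreeStmt : Prop :=
  ∀ {X : Type u} [Group X] {E : Set X}, OPlusCase X E 3 → SymCase X E 8

/-- M0: the simple groups among the possibilities. -/
def SimpleStmt : Prop :=
  ∀ {G : Type u} [Group G] [Finite G] [IsSimpleGroup G] {D : Set G},
    (∃ x y : G, x * y ≠ y * x) → IsThreeTranspositionClass D → FullConcl G D →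
    (∃ n : ℕ, Nonempty (G ≃* Matrix.symplecticGroup (Fin n) (ZMod 2))) ∨
      (∃ (F : Type) (_ : Field F) (_ : Fintype F) (n : ℕ), Fintype.card F = 4 ∧
        Nonempty (G ≃* Cfsg.PSU n F 2)) ∨
      (∃ m : ℕ, Nonempty (G ≃* Cfsg.POmega (ZMod 3) (Cfsg.quadFormOdd m (ZMod 3)))) ∨
      Cfsg.IsFi22 G ∨ Cfsg.IsFi23 G

end H71.Fischer
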