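/-
Coordinates over the field with three elements for a set of 3-transpositions, and the separate
steps from a reflection group to the next one.
-/
import Cfsg.Agent.H71.Fischer.Defs

set_option autoImplicit false

namespace H71.Fischer

open Cfsg
open H5.TT.Fac (Down qD)

universe u

/-- The space of dimension `n` over the field with three elements. -/
abbrev V3 (n : ℕ) : Type := Fin n → ZMod 3

/-- A non-degenerate symmetric form. -/
structure Form3 (n : ℕ) where
  B : LinearMap.BilinForm (ZMod 3) (V3 n)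
  symm : ∀ x y, B x y = B y x
  nondeg : ∀ x, (∀ y, B x y = 0) → x = 0

/-- The points: vectors of norm one. -/
def Form3.Pt {n : ℕ} (f : Form3 n) (v : V3 n) : Prop := f.B v v = 1

/-- The reflection in a point, in characteristic three. -/
def Form3.ref {n : ℕ} (f : Form3 n) (v u : V3 n) : V3 n := u + f.B u v • v

/-- Coordinates for a set `S` of transpositions: the points up to sign, with commutation given by
orthogonality and conjugation given by reflection. -/
structure Chart {G : Type u} [Group G] (S : Set G) {n : ℕ} (f : Form3 n) (pt : V3 n → G) : Prop where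
  mem : ∀ v, f.Pt v → pt v ∈ S
  surj : ∀ a ∈ S, ∃ v, f.Pt v ∧ pt v = a
  eq_iff : ∀ u v, f.Pt u → f.Pt v → (pt u = pt v ↔ u = v ∨ u = -v)
  comm : ∀ u v, f.Pt u → f.Pt v → u ≠ v → u ≠ -v → (Commute (pt u) (pt v) ↔ f.B u v = 0)
  conj : ∀ u v, f.Pt u → f.Pt v → pt v * pt u * pt v = pt (f.ref v u)

/-- The points orthogonal to `r`. -/
def Form3.sect {n : ℕ} (f : Form3 n) (r : V3 n) : Set (V3 n) := {v | f.Pt v ∧ f.B r v = 0}

/-- `r` describes the common neighbours of `d` and `y` in the coordinates `pt` at `d`. -/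
def Link3 {G : Type u} [Group G] (D : Set G) (d y : G) {n : ℕ} (f : Form3 n) (pt : V3 n → G)
    (r : V3 n) : Prop :=
  r ≠ 0 ∧ f.B r r = 0 ∧ H99.perp D d ∩ H99.perp D y = pt '' f.sect r

/-- Coordinates at every member, from one step down. -/
def ChartStmt : Prop :=
  ∀ {G : Type u} [Group G] [Finite G] {D : Set G} {d : G} {n : ℕ}, Step D d → 5 ≤ n →
    ReflCase (Down D d) (qD D d) n →
      ∀ s ∈ D, ∃ (f : Form3 n) (pt : V3 n → G), Chart (H99.perp D s) f pt

/-- The common neighbours of two non-commuting members form an isotropic section. -/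
def SectStmt : Prop :=
  ∀ {G : Type u} [Group G] [Finite G] {D : Set G} {d : G} {n : ℕ}, Step D d → 5 ≤ n →
    (∀ s ∈ D, ∃ (f : Form3 n) (pt : V3 n → G), Chart (H99.perp D s) f pt) →
      ∀ (f : Form3 n) (pt : V3 n → G), Chart (H99.perp D d) f pt →
        ∀ y ∈ D, ¬ Commute d y → ∃ r, Link3 D d y f pt r

/-- A section determines a member up to the exchange by `d`. -/
def FibreStmt : Prop :=
  ∀ {G : Type u} [Group G] [Finite G] {D : Set G} {d : G} {n : ℕ}, Step D d → 5 ≤ n →
    (∀ s ∈ D, ∃ (f : Form3 n) (pt : V3 n → G), Chart (H99.perp D s) f pt) →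
      ∀ (f : Form3 n) (pt : V3 n → G), Chart (H99.perp D d) f pt →
        ∀ y ∈ D, ∀ y' ∈ D, ¬ Commute d y → ¬ Commute d y' →
          H99.perp D d ∩ H99.perp D y = H99.perp D d ∩ H99.perp D y' → y' = y ∨ y' = d * y * d

/-- Coordinates at `d` with sections give coordinates for the whole class. -/
def GlobalStmt : Prop :=
  ∀ {G : Type u} [Group G] [Finite G] {D : Set G} {d : G} {n : ℕ}, Step D d → 5 ≤ n →
    ∀ (f : Form3 n) (pt : V3 n → G), Chart (H99.perp D d) f pt →
      (∀ y ∈ D, ¬ Commute d y → ∃ r, Link3 D d y f pt r) →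
      (∀ y ∈ D, ∀ y' ∈ D, ¬ Commute d y → ¬ Commute d y' →
          H99.perp D d ∩ H99.perp D y = H99.perp D d ∩ H99.perp D y' → y' = y ∨ y' = d * y * d) →
      ∃ (f' : Form3 (n + 1)) (pt' : V3 (n + 1) → G), Chart D f' pt'

/-- Coordinates for the whole class give the reflection group. -/
def OfChartStmt : Prop :=
  ∀ {G : Type u} [Group G] [Finite G] {D : Set G} {n : ℕ}, IsThreeTranspositionGroup D →
    Subgroup.center G = ⊥ → 5 ≤ n → (∃ (f : Form3 n) (pt : V3 n → G), Chart D f pt) → ReflCase G D n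

theorem refl_of_parts (h1 : ChartStmt.{u}) (h2 : SectStmt.{u}) (h3 : FibreStmt.{u})
    (h4 : GlobalStmt.{u}) (h5 : OfChartStmt.{u}) : ReflStmt.{u} := by
  intro G _ _ D d n s hn hX
  have hall := h1 s hn hX
  obtain ⟨f, pt, hc⟩ := hall d s.mem
  exact h5 s.grp s.triv (by omega)
    (h4 s hn f pt hc (h2 s hn hall f pt hc) (h3 s hn hall f pt hc))

end H71.Fischer
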