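/-
Over type M(23): type M(24), by comparison with the model.
-/
import Cfsg.Agent.H71.Fischer.Defs
import Cfsg.Agent.H98.Fischer.Facts
import Cfsg.Agent.H98.Fischer.Parts
import Cfsg.Agent.H98.Fischer.TypeMap
import Cfsg.Agent.H98.M24.Main
import Cfsg.Agent.H98.M24.Uniq
import Cfsg.Agent.H71.M24A.Fi24Base
import Cfsg.Agent.H40.Fischer.Exist2x

set_option autoImplicit false

namespace H71.Fischer

open Cfsg H99 H65.Fischer H98.M24
open H5.TT.Fac (Down qD Desc)

universe u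

theorem model24 : IsThreeTranspositionGroup H71.M24A.Tbl.D24 ∧
    IsPrimitiveUnderConj H71.M24A.Tbl.D24 ∧ IsOfTypeM24 H71.M24A.Tbl.G H71.M24A.Tbl.D24 := by
  obtain ⟨hc, hp, ht⟩ :=
    H40.Fischer.M24.type_m24 H71.M24A.Tbl.facts H40.Fischer.Exist2x.type_m23.2.2
  exact ⟨class_toGroup hc, hp, ht⟩

theorem typeM24_of_down24 {G : Type u} [Group G] [Finite G] {D : Set G}
    (h : H98.Fischer.Down24 D) : IsOfTypeM24 G D := by
  haveI := H71.M24A.Tbl.finite
  have L := H98.Fischer.levels h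
  have F : H98.M24.Facts D := H98.Fischer.facts_of_parts h fun x hx y hy hxy =>
    H98.Fischer.Levels.hasParts L hx hy hxy h.good
  obtain ⟨hD', hp', ht'⟩ := model24
  have F' := facts_of_type iso22 hD' hp' ht'
  obtain ⟨d, hd, hdesc, hpX, hX⟩ := h.down
  obtain ⟨d', hd', hdesc', hpX', hX'⟩ := m24_down hD' hp' ht'
  obtain ⟨i, hi⟩ := uniq23 _ _ _ _ (class_toGroup (H5.TT.Fac.qD_class hdesc)) hpX hX
    (class_toGroup (H5.TT.Fac.qD_class hdesc')) hpX' hX'
  have hφ : Eqv (perp D d) (perp H71.M24A.Tbl.D24 d') _ :=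
    ((eqv_dn hdesc F.ce hd).trans (Eqv.ofEquiv i hi)).trans
      ((eqv_dn hdesc' F'.ce hd').symm (F'.ce1 hd'))
  obtain ⟨ε, hε⟩ := F.parity
  obtain ⟨ε', hε'⟩ := F'.parity
  have C : H98.M24.Ctx D H71.M24A.Tbl.D24 d d' _ ε ε' := ⟨F, F', hd, hd', hφ, hε, hε'⟩
  obtain ⟨f, hf⟩ := C.exists_global
  obtain ⟨e, he⟩ := hf.exists_mulEquiv F.ce F'.ce F.good.cls.2.2 F'.good.cls.2.2 h.triv ht'.1
  have him : e '' D = H71.M24A.Tbl.D24 := by
    rw [← hf.bij.image_eq]; exact Set.image_congr he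
  have := H98.Fischer.typeM24_map e.symm ht'
  rwa [← him, Set.image_image, Set.image_congr (g := id) (fun x _ => e.symm_apply_apply x),
    Set.image_id] at this

theorem m24Stmt : M24Stmt.{u} := by
  intro G _ _ D d s hX
  exact typeM24_of_down24 (H98.Fischer.Down24.mk' s.grp s.prim s.triv s.mem s.downPrim hX)

end H71.Fischer
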