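/-
Fischer's classification from the separate steps.
-/
import Cfsg.Agent.H71.Fischer.Defs
import Cfsg.Agent.H99.TTFischer

set_option autoImplicit false

namespace H71.Fischer

open Cfsg
open H5.TT.Fac (Down qD)

universe u

/-- The steps together. -/
structure Steps : Prop where
  down : DownStmt.{u}
  core : CoreStmt.{u}
  narrow : NarrowStmt.{u}
  sp : SpStmt.{u}
  sym : SymStmt.{u}
  noOPlus : NoOPlusStmt.{u}
  noOMinus : NoOMinusStmt.{u}
  noPSU : NoPSUStmt.{u}
  noM24 : NoM24Stmt.{u}
  m22 : M22Stmt.{u}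
  m23 : M23Stmt.{u}
  m24 : M24Stmt.{u}
  refl : ReflStmt.{u}
  psuFour : PSUFourStmt.{u}
  oMinusTwo : OMinusTwoStmt.{u}
  oPlusThree : OPlusThreeStmt.{u}

theorem card_down_lt {G : Type u} [Group G] [Finite G] {D : Set G} {d : G} (h : Hyp D d) :
    Nat.card (Down D d) < Nat.card G := by
  have hne : Subgroup.closure (H99.perp D d) ≠ ⊤ := fun htop => by
    have hd1 : d ∈ Subgroup.center G := Subgroup.mem_center_iff.2 fun g =>
      (H5.TT.Fac.commute_closure (fun w hw => hw.2.2) (htop ▸ Subgroup.mem_top g)).eq.symm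
    rw [h.triv, Subgroup.mem_bot] at hd1
    have := h.grp.1.1 d h.mem
    rw [hd1, orderOf_one] at this
    omega
  refine lt_of_le_of_lt (Nat.card_le_card_of_surjective _ QuotientGroup.mk_surjective) ?_
  refine lt_of_le_of_ne (Subgroup.card_le_card_group _) fun he => hne ?_
  exact Subgroup.eq_top_of_card_eq _ he

/-- The classification of primitive groups with central local cores. -/
theorem classify (S : Steps.{u}) : ∀ (N : ℕ) {G : Type u} [Group G] [Finite G] {D : Set G} {d : G},
    Nat.card G = N → Hyp D d → Concl G D := by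
  intro N
  induction N using Nat.strong_induction_on with
  | _ N ih =>
    intro G _ _ D d hN h
    have s := S.down h
    obtain ⟨a, ha⟩ : ∃ a, a ∈ qD D d := by
      obtain ⟨a, ha, -⟩ := s.downClass.2.1
      exact ⟨a, ha⟩
    by_cases hc : CoresCentral (qD D d) a
    · have hH : Hyp (qD D d) a :=
        ⟨H99.class_toGroup s.downClass, s.downPrim, s.downTriv, ha, s.downWide a ha, hc⟩
      rcases ih _ (hN ▸ card_down_lt h) rfl hH with
        ⟨n, hn, hX⟩ | (⟨m, hm, hX⟩ | ⟨m, hm, hX⟩) | ⟨n, hn, hX⟩ | hX | hX | hX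
      · exact Or.inl ⟨n + 2, by omega, S.sym s (Or.inr hn) hX⟩
      · by_cases h3 : m = 3
        · subst h3
          exact Or.inl ⟨10, by norm_num, S.sym s (Or.inr (by norm_num)) (S.oPlusThree hX)⟩
        · exact (S.noOPlus s (by omega) hX).elim
      · by_cases h2 : m = 2
        · subst h2
          exact Or.inr (Or.inr (Or.inl ⟨6, by norm_num, S.refl s (by norm_num) (S.oMinusTwo hX)⟩))
        · exact (S.noOMinus s (by omega) hX).elim
      · exact Or.inr (Or.inr (Or.inl ⟨n + 1, by omega, S.refl s hn hX⟩))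
      · exact Or.inr (Or.inr (Or.inr (Or.inr (Or.inl (S.m23 s hX)))))
      · exact Or.inr (Or.inr (Or.inr (Or.inr (Or.inr (S.m24 s hX)))))
      · exact (S.noM24 s hX).elim
    · rcases S.core (H99.class_toGroup s.downClass) s.downPrim s.downTriv ha (s.downWide a ha) hc with
        hX | ⟨m, hm, hX⟩ | ⟨n, hn, hX⟩
      · exact Or.inl ⟨7, le_rfl, S.sym s (Or.inl rfl) hX⟩
      · rcases S.sp s hm hX with hG | hG
        · exact Or.inr (Or.inl (Or.inl ⟨m + 1, by omega, hG⟩))
        · exact Or.inr (Or.inl (Or.inr ⟨m, hm, hG⟩))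
      · by_cases h4 : n = 4
        · subst h4
          exact Or.inr (Or.inr (Or.inl ⟨6, by norm_num, S.refl s (by norm_num) (S.psuFour hX)⟩))
        by_cases h6 : n = 6
        · subst h6
          exact Or.inr (Or.inr (Or.inr (Or.inl (S.m22 s hX))))
        exact (S.noPSU s (by omega) hX).elim

/-- The classification of classes with simple commutator subgroup. -/
theorem full (S : Steps.{u}) {G : Type u} [Group G] [Finite G] {D : Set G}
    (hD : IsThreeTranspositionClass D) (hZ : Subgroup.center G = ⊥)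
    (hs : IsSimpleGroup (commutator G)) : FullConcl G D := by
  by_cases hw : ∃ a ∈ D, ∃ b ∈ D, a ≠ b ∧ Commute a b
  · have hp : IsPrimitiveUnderConj D := by
      by_cases hab : ∀ x y : commutator G, x * y = y * x
      · exact (H99.comm_derived_absurd hD hs hab hZ hw).elim
      · push Not at hab
        exact (H99.fischer_of_simple hD hs hab).1
    obtain ⟨d, hd, b, hb, hdb, hcb⟩ := hw
    by_cases hc : CoresCentral D d
    · exact Or.inr (Or.inr (classify S _ rfl
        ⟨H99.class_toGroup hD, hp, hZ, hd, ⟨b, hb, hdb.symm, hcb⟩, hc⟩))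
    · exact Or.inr (Or.inl
        (S.core (H99.class_toGroup hD) hp hZ hd ⟨b, hb, hdb.symm, hcb⟩ hc))
  · exact Or.inl (S.narrow hD hZ hs hw)

end H71.Fischer
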