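/-
Over the six-dimensional unitary group: type M(22), in the frozen shape.
-/
import Cfsg.Agent.H71.Fischer.Defs
import Cfsg.Agent.H33.FiU6.Step

set_option autoImplicit false

namespace H71.Fischer

universe u

theorem m22Stmt : M22Stmt.{u} := by
  intro G _ _ D d s h
  obtain ⟨F, i, j, hF, e, -⟩ := h
  exact H33.FiU6.type_m22 s.grp s.prim s.triv hF s.mem e

end H71.Fischer
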