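/-
The small identifications in the frozen shapes.
-/
import Cfsg.Agent.H71.Fischer.Defs
import Cfsg.Agent.H37.Fischer.Small

set_option autoImplicit false

namespace H71.Fischer

universe u

theorem psuFourStmt : PSUFourStmt.{u} := by
  intro X _ E h
  obtain ⟨F, i, j, hF, e, he⟩ := h
  exact H37.Fischer.Small.unit_iso_refl hF e he

theorem oMinusTwoStmt : OMinusTwoStmt.{u} := by
  intro X _ E h
  obtain ⟨e, he⟩ := h
  exact H37.Fischer.Small.minus_iso_refl e he

theorem oPlusThreeStmt : OPlusThreeStmt.{u} := by
  intro X _ E h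
  obtain ⟨e, he⟩ := h
  exact H37.Fischer.Small.plus_iso_swap e he

end H71.Fischer
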