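/-
Fischer's theorem on groups generated by 3-transpositions: all steps together.
-/
import Cfsg.Agent.H71.Fischer.Final
import Cfsg.Agent.H71.Fischer.Small
import Cfsg.Agent.H71.Fischer.MTwoTwo
import Cfsg.Agent.H71.Fischer.MTwoFour
import Cfsg.Agent.H73.Fischer.Down
import Cfsg.Agent.H84.CoreCase.Main
import Cfsg.Agent.H45.Narrow.Main
import Cfsg.Agent.H51.FStep.SpCase
import Cfsg.Agent.H33.FiSym.Stmt
import Cfsg.Agent.H45.M23Step.Stmt
import Cfsg.Agent.H58.Fischer.Orth
import Cfsg.Agent.H58.Fischer.NoPSU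
import Cfsg.Agent.H88.Fischer.NoM24
import Cfsg.Agent.H20.FischerO3.Main
import Cfsg.Agent.H22.Fischer.Simple

set_option autoImplicit false

namespace H71.Fischer

open Cfsg
open scoped MatrixGroups

universe u

/-- Every step of the classification. -/
theorem steps : Steps.{u} :=
  ⟨H73.Fischer.downStmt, H84.CoreCase.coreStmt, H45.Narrow.narrowStmt, H51.FStep.sp_stmt,
    H33.FiSym.symStmt, H58.Fischer.noOPlus, H58.Fischer.noOMinus, H58.Fischer.noPSU,
    H88.Fischer.noM24, m22Stmt, H45.M23Step.m23Stmt, m24Stmt, H20.FischerO3.reflStep,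
    psuFourStmt, oMinusTwoStmt, oPlusThreeStmt⟩

end H71.Fischer
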